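import Groth.Agent.Lib.FieldH25.RatNormal

/-!
# Rational étale cohomology is detected on connected components
-/

set_option autoImplicit false
set_option linter.style.haveILetI false
set_option backward.isDefEq.respectTransparency false
set_option backward.isDefEq.respectTransparency.types false
set_option maxHeartbeats 800000

universe u

open CategoryTheory CategoryTheory.Limits AlgebraicGeometry Opposite Abelian

namespace Groth.Agent.RatPi13

open Groth.Agent.EtSite Groth.Agent.NormSep24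

variable {X Y : Scheme.{u}}

theorem exists_cst (V : X.Etale) (s : (EtCoh.const X ℚ).obj.obj (op V)) (x : V.left) :
    ∃ (W : X.Etale) (f : W ⟶ V) (m : ULift.{u + 1} ℚ),
      x ∈ Set.range f.left ∧ cst ℚ W m = (EtCoh.const X ℚ).obj.map f.op s := by
  obtain ⟨W, f, y, ⟨b, hb⟩, hy⟩ := (mem_et_iff V _).1
    (Presheaf.imageSieve_mem X.smallEtaleTopology (toSheafify X.smallEtaleTopology
      ((Functor.const X.Etaleᵒᵖ).obj (AddCommGrpCat.of (ULift.{u + 1} ℚ)))) s) x
  exact ⟨W, f, b, ⟨y, hy⟩, hb⟩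

theorem cst_add (V : X.Etale) (m m' : ULift.{u + 1} ℚ) : cst ℚ V (m + m') = cst ℚ V m + cst ℚ V m' :=
  map_add _ _ _

theorem cst_zero (V : X.Etale) : cst ℚ V (0 : ULift.{u + 1} ℚ) = 0 := map_zero _

/-- A morphism out of the constant sheaf is determined locally on constants. -/
theorem hom_ext_cst {B : EtCoh.Ab X} (φ ψ : EtCoh.const X ℚ ⟶ B)
    (h : ∀ (V : X.Etale) (x : V.left) (m : ULift.{u + 1} ℚ), ∃ (W : X.Etale) (f : W ⟶ V),
      x ∈ Set.range f.left ∧ φ.hom.app (op W) (cst ℚ W m) = ψ.hom.app (op W) (cst ℚ W m)) :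
    φ = ψ := by
  refine Sheaf.hom_ext (NatTrans.ext (funext fun V => AddCommGrpCat.ext fun s => ?_))
  choose W f m hx hm using exists_cst V.unop s
  refine sect_ext B W f (fun x => ⟨x, hx x⟩) fun x => ?_
  rw [← NatTrans.naturality_apply, ← NatTrans.naturality_apply, ← hm]
  choose W' f' hx' h' using fun y => h (W x) y (m x)
  refine sect_ext B W' f' (fun y => ⟨y, hx' y⟩) fun y => ?_
  rw [← NatTrans.naturality_apply, ← NatTrans.naturality_apply, cst_res]
  exact h' y

/-- Factorisation through an open of the terminal object. -/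
theorem exists_hom_sub_top (U : X.Opens) (V : X.Etale) (hr : Set.range V.hom ⊆ (U : Set X)) :
    Nonempty (V ⟶ sub (EtCoh.top X) U) := by
  refine ⟨MorphismProperty.Over.homMk (IsOpenImmersion.lift U.ι V.hom (hr.trans_eq (Scheme.Opens.range_ι U).symm)) ?_⟩
  show _ ≫ U.ι ≫ (EtCoh.top X).hom = V.hom
  rw [← Category.assoc, IsOpenImmersion.lift_fac]
  exact Category.comp_id _

theorem map_congr (F : EtCoh.Ab X) {V W : X.Etale} {a b : V ⟶ W} (h : a = b) (t : F.obj.obj (op W)) :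
    F.obj.map a.op t = F.obj.map b.op t := by rw [h]

section Proj

variable {U : X.Opens} (hU : IsClosed (U : Set X))
include hU

/-- The complement of a clopen. -/
def cpl : X.Opens := ⟨(U : Set X)ᶜ, hU.isOpen_compl⟩

theorem exists_gsec (m : ULift.{u + 1} ℚ) : ∃ t : (EtCoh.const X ℚ).obj.obj (op (EtCoh.top X)),
    ∀ V : X.Etale, (Set.range V.hom ⊆ (U : Set X) →
        (EtCoh.const X ℚ).obj.map ((EtCore.topIsTerminal X).from V).op t = cst ℚ V m) ∧
      (Set.range V.hom ⊆ (U : Set X)ᶜ →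
        (EtCoh.const X ℚ).obj.map ((EtCore.topIsTerminal X).from V).op t = 0) := by
  let P : Bool → X.Etale := fun b => sub (EtCoh.top X) (if b then U else cpl hU)
  let f : ∀ b, P b ⟶ EtCoh.top X := fun b => subHom _ _
  let s : ∀ b, (EtCoh.const X ℚ).obj.obj (op (P b)) := fun b => cst ℚ (P b) (if b then m else 0)
  have hr : ∀ (b : Bool) (Z : X.Etale) (a : Z ⟶ P b),
      Set.range Z.hom ⊆ ((if b then U else cpl hU : X.Opens) : Set X) := by
    intro b Z a
    rintro _ ⟨z, rfl⟩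
    rw [← MorphismProperty.Over.w a]
    exact ((a.left z : ((if b then U else cpl hU : X.Opens) : Scheme.{u}))).2
  have hcov : ∀ x : (EtCoh.top X).left, ∃ b, x ∈ Set.range (f b).left := by
    intro x
    by_cases hx : (x : X) ∈ U
    · exact ⟨true, ⟨⟨x, hx⟩, rfl⟩⟩
    · exact ⟨false, ⟨⟨x, hx⟩, rfl⟩⟩
  have hs : ∀ i j (Z : X.Etale) (a : Z ⟶ P i) (b : Z ⟶ P j), a ≫ f i = b ≫ f j →
      (EtCoh.const X ℚ).obj.map a.op (s i) = (EtCoh.const X ℚ).obj.map b.op (s j) := by
    intro i j Z a b _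
    simp only [s, cst_res]
    by_cases hij : i = j
    · subst hij; rfl
    · refine eq_of_isEmpty _ ⟨fun z => ?_⟩ _ _
      have h1 := hr i Z a ⟨z, rfl⟩
      have h2 := hr j Z b ⟨z, rfl⟩
      cases i <;> cases j <;> simp_all [cpl]
  obtain ⟨t, ht, -⟩ := glue (EtCoh.const X ℚ) P f hcov s hs
  refine ⟨t, fun V => ⟨fun h => ?_, fun h => ?_⟩⟩
  · obtain ⟨a⟩ := exists_hom_sub_top U V h
    rw [map_congr _ (show (EtCore.topIsTerminal X).from V = a ≫ f true from
      (EtCore.topIsTerminal X).hom_ext _ _), ← res_res]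
    exact (congrArg _ (ht true)).trans (cst_res ℚ _ _)
  · obtain ⟨a⟩ := exists_hom_sub_top (cpl hU) V h
    rw [map_congr _ (show (EtCore.topIsTerminal X).from V = a ≫ f false from
      (EtCore.topIsTerminal X).hom_ext _ _), ← res_res]
    exact ((congrArg _ (ht false)).trans (cst_res ℚ _ _)).trans (cst_zero V)

theorem gsec_ext {t t' : (EtCoh.const X ℚ).obj.obj (op (EtCoh.top X))}
    (h : ∀ V : X.Etale, Set.range V.hom ⊆ (U : Set X) ∨ Set.range V.hom ⊆ (U : Set X)ᶜ →
      (EtCoh.const X ℚ).obj.map ((EtCore.topIsTerminal X).from V).op t =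
        (EtCoh.const X ℚ).obj.map ((EtCore.topIsTerminal X).from V).op t') : t = t' := by
  refine sect_ext (EtCoh.const X ℚ) (fun b : Bool => sub (EtCoh.top X) (if b then U else cpl hU))
    (fun b => subHom _ _) (fun x => ?_) fun b => ?_
  · by_cases hx : (x : X) ∈ U
    · exact ⟨true, ⟨⟨x, hx⟩, rfl⟩⟩
    · exact ⟨false, ⟨⟨x, hx⟩, rfl⟩⟩
  · rw [map_congr _ ((EtCore.topIsTerminal X).hom_ext (subHom _ _) ((EtCore.topIsTerminal X).from _)),
      map_congr _ ((EtCore.topIsTerminal X).hom_ext (subHom _ _) ((EtCore.topIsTerminal X).from _))]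
    refine h _ ?_
    cases b
    · right; rintro _ ⟨z, rfl⟩; exact z.2
    · left; rintro _ ⟨z, rfl⟩; exact z.2

/-- The global section attached to a constant. -/
noncomputable def gsec : AddCommGrpCat.of (ULift.{u + 1} ℚ) ⟶ (EtCoh.const X ℚ).obj.obj (op (EtCoh.top X)) :=
  AddCommGrpCat.ofHom (AddMonoidHom.mk' (fun m => (exists_gsec hU m).choose) fun m m' => by
    refine gsec_ext hU fun V hV => ?_
    rw [map_add]
    rcases hV with h | h
    · rw [((exists_gsec hU (m + m')).choose_spec V).1 h, ((exists_gsec hU m).choose_spec V).1 h,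
        ((exists_gsec hU m').choose_spec V).1 h, cst_add]
    · rw [((exists_gsec hU (m + m')).choose_spec V).2 h, ((exists_gsec hU m).choose_spec V).2 h,
        ((exists_gsec hU m').choose_spec V).2 h, add_zero])

/-- The idempotent endomorphism of the constant sheaf attached to a clopen. -/
noncomputable def proj : EtCoh.const X ℚ ⟶ EtCoh.const X ℚ :=
  ((EtCore.constAdj X).homEquiv (AddCommGrpCat.of (ULift.{u + 1} ℚ)) (EtCoh.const X ℚ)).symm (gsec hU)

theorem proj_top (m : ULift.{u + 1} ℚ) :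
    (proj hU).hom.app (op (EtCoh.top X)) (cst ℚ (EtCoh.top X) m) = gsec hU m := by
  have h := ((EtCore.constAdj X).homEquiv (AddCommGrpCat.of (ULift.{u + 1} ℚ)) (EtCoh.const X ℚ)).apply_symm_apply
    (gsec hU)
  rw [Adjunction.homEquiv_unit] at h
  exact ConcreteCategory.congr_hom h m

theorem proj_cst (V : X.Etale) (m : ULift.{u + 1} ℚ) :
    (Set.range V.hom ⊆ (U : Set X) → (proj hU).hom.app (op V) (cst ℚ V m) = cst ℚ V m) ∧
      (Set.range V.hom ⊆ (U : Set X)ᶜ → (proj hU).hom.app (op V) (cst ℚ V m) = 0) := by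
  have h : (proj hU).hom.app (op V) (cst ℚ V m) =
      (EtCoh.const X ℚ).obj.map ((EtCore.topIsTerminal X).from V).op (gsec hU m) := by
    rw [← cst_res ℚ ((EtCore.topIsTerminal X).from V) m, NatTrans.naturality_apply, proj_top]
  rw [h]
  exact (exists_gsec hU m).choose_spec V

end Proj

theorem exists_small (U : X.Opens) (hU : IsClosed (U : Set X)) (V : X.Etale) (x : V.left) :
    ∃ (W : X.Etale) (f : W ⟶ V), x ∈ Set.range f.left ∧
      (Set.range W.hom ⊆ (U : Set X) ∧ V.hom x ∈ U ∨ Set.range W.hom ⊆ (U : Set X)ᶜ ∧ V.hom x ∉ U) := by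
  by_cases hx : V.hom x ∈ U
  · refine ⟨sub V (V.hom ⁻¹ᵁ U), subHom _ _, ⟨⟨x, hx⟩, rfl⟩, Or.inl ⟨?_, hx⟩⟩
    rintro _ ⟨z, rfl⟩; exact z.2
  · refine ⟨sub V (V.hom ⁻¹ᵁ cpl hU), subHom _ _, ⟨⟨x, hx⟩, rfl⟩, Or.inr ⟨?_, hx⟩⟩
    rintro _ ⟨z, rfl⟩; exact z.2

theorem proj_comp {U U' : X.Opens} (hU : IsClosed (U : Set X)) (hU' : IsClosed (U' : Set X))
    (hle : U' ≤ U) : proj hU ≫ proj hU' = proj hU' := by
  refine hom_ext_cst _ _ fun V x m => ?_
  obtain ⟨W, f, ⟨y, hy⟩, h⟩ := exists_small U' hU' V x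
  obtain ⟨W', f', hy', h'⟩ := exists_small U hU W y
  refine ⟨W', f' ≫ f, ?_, ?_⟩
  · obtain ⟨z, hz⟩ := hy'
    exact ⟨z, (congrArg f.left hz).trans hy⟩
  have hsub : Set.range W'.hom ⊆ Set.range W.hom := by
    rintro _ ⟨z, rfl⟩
    exact ⟨f'.left z, congrArg (fun t : W'.left ⟶ X => t z) (MorphismProperty.Over.w f')⟩
  show (proj hU').hom.app (op W') ((proj hU).hom.app (op W') (cst ℚ W' m)) = _
  rcases h' with ⟨h', -⟩ | ⟨h', -⟩
  · rw [(proj_cst hU W' m).1 h']
  · rw [(proj_cst hU W' m).2 h', map_zero, (proj_cst hU' W' m).2 (h'.trans (Set.compl_subset_compl.2 hle))]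

theorem proj_union {U U' W₀ : X.Opens} (hU : IsClosed (U : Set X)) (hU' : IsClosed (U' : Set X))
    (hW₀ : IsClosed (W₀ : Set X)) (e : (W₀ : Set X) = (U : Set X) ∪ U') :
    proj hW₀ = proj hU + proj hU' - proj hU ≫ proj hU' := by
  refine hom_ext_cst _ _ fun V x m => ?_
  obtain ⟨W, f, ⟨y, hy⟩, h⟩ := exists_small U' hU' V x
  obtain ⟨W', f', hy', h'⟩ := exists_small U hU W y
  refine ⟨W', f' ≫ f, ?_, ?_⟩
  · obtain ⟨z, hz⟩ := hy'
    exact ⟨z, (congrArg f.left hz).trans hy⟩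
  have hsub : Set.range W'.hom ⊆ Set.range W.hom := by
    rintro _ ⟨z, rfl⟩
    exact ⟨f'.left z, congrArg (fun t : W'.left ⟶ X => t z) (MorphismProperty.Over.w f')⟩
  show (proj hW₀).hom.app (op W') (cst ℚ W' m) =
    (proj hU).hom.app (op W') (cst ℚ W' m) + (proj hU').hom.app (op W') (cst ℚ W' m) -
      (proj hU').hom.app (op W') ((proj hU).hom.app (op W') (cst ℚ W' m))
  rcases h' with ⟨h', -⟩ | ⟨h', -⟩
  · rw [(proj_cst hU W' m).1 h', (proj_cst hW₀ W' m).1 (h'.trans (e ▸ Set.subset_union_left))]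
    abel
  · rw [(proj_cst hU W' m).2 h', map_zero, sub_zero, zero_add]
    rcases h with ⟨h, -⟩ | ⟨h, -⟩
    · rw [(proj_cst hU' W' m).1 (hsub.trans h),
        (proj_cst hW₀ W' m).1 ((hsub.trans h).trans (e ▸ Set.subset_union_right))]
    · rw [(proj_cst hU' W' m).2 (hsub.trans h), (proj_cst hW₀ W' m).2 (by
        rw [e, Set.compl_union]; exact Set.subset_inter h' (hsub.trans h))]

theorem proj_of_univ {U : X.Opens} (hU : IsClosed (U : Set X)) (e : (U : Set X) = Set.univ) :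
    proj hU = 𝟙 _ := by
  refine hom_ext_cst _ _ fun V x m => ⟨V, 𝟙 V, ⟨x, rfl⟩, ?_⟩
  rw [(proj_cst hU V m).1 (e ▸ Set.subset_univ _)]
  rfl

section Closed

variable {Z : Scheme.{u}} (i : Z ⟶ X) [IsClosedImmersion i]

theorem epi_toPush : Epi (toPush ℚ i) := by
  rw [← Sheaf.isLocallySurjective_iff_epi']
  refine ⟨fun {V} t => ?_⟩
  rw [mem_et_iff]
  intro v
  let g : V.left ⟶ X := V.hom
  by_cases hv : g v ∈ Set.range i
  · obtain ⟨z, hz⟩ := hv
    obtain ⟨w, hw₁, -⟩ := Scheme.Pullback.exists_preimage_pullback (f := g) (g := i) v z hz.symm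
    obtain ⟨T, a, m, ⟨w', hw'⟩, hm⟩ := exists_cst ((EtCoh.bc i).obj V) t w
    let p : ((EtCoh.bc i).obj V).left ⟶ V.left := EtStalk.bcFst i V
    haveI : IsPreimmersion (pullback.fst g i) := inferInstance
    obtain ⟨O, hO, hOeq⟩ := (pullback.fst g i).isEmbedding.isInducing.isOpen_iff.1 (isOpen_range_left a)
    let Op : V.left.Opens := ⟨O, hO⟩
    have hvO : v ∈ O := by
      have : w ∈ pullback.fst g i ⁻¹' O := hOeq ▸ ⟨w', hw'⟩
      rwa [Set.mem_preimage, hw₁] at this
    refine ⟨sub V Op, subHom V Op, ⟨v, hvO⟩, ⟨cst ℚ (sub V Op) m, ?_⟩, rfl⟩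
    rw [toPush_cst]
    let P := (EtCoh.bc i).obj (sub V Op)
    let b : P ⟶ (EtCoh.bc i).obj V := (EtCoh.bc i).map (subHom V Op)
    show cst ℚ P m = (EtCoh.const Z ℚ).obj.map b.op t
    have hb : ∀ z : P.left, b.left z ∈ Set.range a.left := by
      intro z
      have h1 : pullback.fst g i (b.left z) = Op.ι (EtStalk.bcFst i (sub V Op) z) := by
        have e : (b.left ≫ pullback.fst g i : P.left ⟶ V.left) = EtStalk.bcFst i (sub V Op) ≫ Op.ι :=
          pullback.lift_fst _ _ _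
        exact congrArg (fun r : P.left ⟶ V.left => r z) e
      have : b.left z ∈ pullback.fst g i ⁻¹' O := by
        rw [Set.mem_preimage, h1]; exact (EtStalk.bcFst i (sub V Op) z).2
      rwa [hOeq] at this
    let g₁ : T.left ⟶ ((EtCoh.bc i).obj V).left := a.left
    let g₂ : P.left ⟶ ((EtCoh.bc i).obj V).left := b.left
    haveI := EtStalk.etale_left a
    haveI := EtStalk.etale_left b
    haveI : AlgebraicGeometry.Etale (show P.left ⟶ Z from P.hom) := P.prop
    let Q : Z.Etale := Scheme.Etale.mk (pullback.snd g₁ g₂ ≫ (show P.left ⟶ Z from P.hom))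
    let q₂ : Q ⟶ P := MorphismProperty.Over.homMk (pullback.snd g₁ g₂) rfl
    have hw : pullback.fst g₁ g₂ ≫ T.hom = pullback.snd g₁ g₂ ≫ P.hom := by
      rw [← MorphismProperty.Over.w a, ← MorphismProperty.Over.w b]
      exact (Category.assoc _ _ _).symm.trans
        ((congrArg (· ≫ ((EtCoh.bc i).obj V).hom) pullback.condition).trans (Category.assoc _ _ _))
    let q₁ : Q ⟶ T := MorphismProperty.Over.homMk (pullback.fst g₁ g₂) hw
    refine sect_ext (EtCoh.const Z ℚ) (ι := PUnit.{1}) (fun _ => Q) (fun _ => q₂) (fun z => ⟨⟨⟩, ?_⟩) fun _ => ?_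
    · obtain ⟨y, hy⟩ := hb z
      obtain ⟨r, -, hr⟩ := Scheme.Pullback.exists_preimage_pullback (f := g₁) (g := g₂) y z hy
      exact ⟨r, hr⟩
    · rw [res_res, map_congr _ (show q₂ ≫ b = q₁ ≫ a from MorphismProperty.Over.Hom.ext pullback.condition.symm),
        ← res_res, ← hm, cst_res, cst_res]
  · have hcl : IsClosed (g ⁻¹' Set.range i) := i.isClosedEmbedding.isClosed_range.preimage g.continuous
    let Op : V.left.Opens := ⟨(g ⁻¹' Set.range i)ᶜ, hcl.isOpen_compl⟩
    refine ⟨sub V Op, subHom V Op, ⟨v, hv⟩, ⟨0, ?_⟩, rfl⟩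
    refine eq_of_isEmpty (EtCoh.const Z ℚ) (U := (EtCoh.bc i).obj (sub V Op)) ⟨fun z => ?_⟩ _ _
    exact (EtStalk.bcFst i (sub V Op) z).2
      (by
        have := Set.mem_range_self (f := EtStalk.bcFst i (sub V Op)) z
        rw [NormSep24.range_bcFst] at this
        exact this)

/-- Clopens containing the closed subscheme. -/
abbrev Idx : Type u := {U : X.Opens // IsClosed (U : Set X) ∧ Set.range i ⊆ (U : Set X)}ᵒᵈ

instance : Nonempty (Idx i) := ⟨OrderDual.toDual ⟨⊤, isClosed_univ, Set.subset_univ _⟩⟩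

instance : IsDirected (Idx i) (· ≤ ·) := ⟨fun a b =>
  ⟨OrderDual.toDual ⟨(OrderDual.ofDual a).1 ⊓ (OrderDual.ofDual b).1,
      (OrderDual.ofDual a).2.1.inter (OrderDual.ofDual b).2.1,
      Set.subset_inter (OrderDual.ofDual a).2.2 (OrderDual.ofDual b).2.2⟩,
    (inf_le_left : (OrderDual.ofDual a).1 ⊓ (OrderDual.ofDual b).1 ≤ (OrderDual.ofDual a).1),
    (inf_le_right : (OrderDual.ofDual a).1 ⊓ (OrderDual.ofDual b).1 ≤ (OrderDual.ofDual b).1)⟩⟩

/-- The projection of an index. -/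
noncomputable abbrev pr (a : Idx i) : EtCoh.const X ℚ ⟶ EtCoh.const X ℚ := proj (OrderDual.ofDual a).2.1

theorem pr_comp {a b : Idx i} (h : a ≤ b) : pr i a ≫ pr i b = pr i b := proj_comp _ _ h

/-- The sections killed by the projections. -/
noncomputable def sys : Idx i ⥤ EtCoh.Ab X where
  obj a := kernel (pr i a)
  map {a b} h := kernel.lift _ (kernel.ι (pr i a)) (by
    rw [← pr_comp i (leOfHom h), ← Category.assoc, kernel.condition, zero_comp])
  map_id a := by rw [← cancel_mono (kernel.ι _), kernel.lift_ι, Category.id_comp]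
  map_comp f g := by
    rw [← cancel_mono (kernel.ι _), kernel.lift_ι, Category.assoc, kernel.lift_ι, kernel.lift_ι]

theorem pr_kill (a : Idx i) : kernel.ι (pr i a) ≫ toPush ℚ i = 0 := by
  have h : pr i a ≫ toPush ℚ i = toPush ℚ i := by
    refine hom_ext_cst _ _ fun V x m => ?_
    obtain ⟨W, f, hx, h⟩ := exists_small (OrderDual.ofDual a).1 (OrderDual.ofDual a).2.1 V x
    refine ⟨W, f, hx, ?_⟩
    show (toPush ℚ i).hom.app (op W) ((pr i a).hom.app (op W) (cst ℚ W m)) = _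
    rcases h with ⟨h, -⟩ | ⟨h, -⟩
    · rw [(proj_cst _ W m).1 h]
    · rw [(proj_cst _ W m).2 h, map_zero]
      refine eq_of_isEmpty (EtCoh.const Z ℚ) (U := (EtCoh.bc i).obj W) ⟨fun z => ?_⟩ _ _
      have h2 := Set.mem_range_self (f := EtStalk.bcFst i W) z
      rw [NormSep24.range_bcFst] at h2
      exact h ⟨_, rfl⟩ ((OrderDual.ofDual a).2.2 h2)
  rw [← h, ← Category.assoc, kernel.condition, zero_comp]

variable (hsep : ∀ x : X, x ∉ Set.range i →
    ∃ U : X.Opens, IsClosed (U : Set X) ∧ Set.range i ⊆ (U : Set X) ∧ x ∉ U)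

include hsep in
theorem exists_proj_kill [CompactSpace X] [QuasiSeparatedSpace X] {n : ℕ}
    (x : EtCoh.H X (EtCoh.const X ℚ) n) (hx : x.comp (Ext.mk₀ (toPush ℚ i)) (add_zero n) = 0) :
    ∃ a : Idx i, x.comp (Ext.mk₀ (pr i a)) (add_zero n) = 0 := by
  haveI := epi_toPush i
  let K := kernel (toPush ℚ i)
  let c : Cocone (sys i) := ⟨K,
    { app := fun a => kernel.lift _ (kernel.ι (pr i a)) (pr_kill i a)
      naturality := fun a b h => by
        dsimp [sys]
        rw [Category.comp_id, ← cancel_mono (kernel.ι (toPush ℚ i)), Category.assoc, kernel.lift_ι,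
          kernel.lift_ι, kernel.lift_ι] }⟩
  haveI : IsFiltered (Idx i) := inferInstance
  haveI : HasExactColimitsOfShape (Idx i) (EtCoh.Ab X) := inferInstance
  haveI : ∀ a, Mono (c.ι.app a) := fun a => by
    haveI : Mono (c.ι.app a ≫ kernel.ι (toPush ℚ i)) := by
      show Mono (kernel.lift _ _ (pr_kill i a) ≫ kernel.ι (toPush ℚ i))
      rw [kernel.lift_ι]; infer_instance
    exact mono_of_mono _ (kernel.ι (toPush ℚ i))
  haveI : IsConnected (Idx i) := IsFiltered.isConnected _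
  haveI : Mono (colimit.desc (sys i) c) := by
    haveI : Mono c.ι := NatTrans.mono_of_mono_app _
    exact colim.map_mono' c.ι (colimit.isColimit (sys i)) (isColimitConstCocone (Idx i) K) _
      (fun a => (colimit.ι_desc c a).trans (Category.comp_id _).symm)
  haveI : Epi (colimit.desc (sys i) c) := by
    rw [← Sheaf.isLocallySurjective_iff_epi']
    refine ⟨fun {V} t => ?_⟩
    rw [mem_et_iff]
    intro v
    let s := (kernel.ι (toPush ℚ i)).hom.app (op V) t
    obtain ⟨W, f, m, ⟨w, hw⟩, hm⟩ := exists_cst V s v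
    have hs : (toPush ℚ i).hom.app (op W) (cst ℚ W m) = 0 := by
      rw [hm, ← NatTrans.naturality_apply, ← ConcreteCategory.comp_apply, ← NatTrans.comp_app,
        ← ObjectProperty.FullSubcategory.comp_hom, kernel.condition]
      rfl
    obtain ⟨a, O, hwO, hzero⟩ : ∃ (a : Idx i) (O : W.left.Opens), w ∈ O ∧
        (pr i a).hom.app (op (sub W O)) (cst ℚ (sub W O) m) = 0 := by
      by_cases hz : W.hom w ∈ Set.range i
      · refine ⟨OrderDual.toDual ⟨⊤, isClosed_univ, Set.subset_univ _⟩, ⊤, trivial, ?_⟩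
        obtain ⟨z, hz⟩ := hz
        obtain ⟨r, -, -⟩ := Scheme.Pullback.exists_preimage_pullback (f := (W.hom : W.left ⟶ X)) (g := i) w z hz.symm
        rw [toPush_cst, ← cst_zero ((EtCoh.bc i).obj W)] at hs
        rw [cst_injective ℚ _ ⟨r⟩ hs, cst_zero, map_zero]
      · obtain ⟨U, hU, hiU, hwU⟩ := hsep _ hz
        refine ⟨OrderDual.toDual ⟨U, hU, hiU⟩, W.hom ⁻¹ᵁ cpl hU, hwU, (proj_cst hU _ m).2 ?_⟩
        rintro _ ⟨z, rfl⟩; exact z.2
    let g : sub W O ⟶ V := subHom W O ≫ f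
    have hsg : (EtCoh.const X ℚ).obj.map g.op s = cst ℚ (sub W O) m := by
      rw [← res_res, ← hm, cst_res]
    obtain ⟨y, hy⟩ : ∃ y : (kernel (pr i a)).obj.obj (op (sub W O)),
        (kernel.ι (pr i a)).hom.app (op (sub W O)) y = cst ℚ (sub W O) m := by
      let Φ := sheafToPresheaf X.smallEtaleTopology AddCommGrpCat.{u + 1} ⋙
        (evaluation _ AddCommGrpCat.{u + 1}).obj (op (sub W O))
      haveI : Φ.Additive := { }
      let S : ShortComplex (EtCoh.Ab X) := ShortComplex.mk (kernel.ι (pr i a)) (pr i a) (kernel.condition _)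
      have hex : (S.map Φ).Exact := by
        refine ShortComplex.exact_of_f_is_kernel _ ?_
        exact KernelFork.mapIsLimit _ (kernelIsKernel (pr i a)) Φ
      exact (ShortComplex.ab_exact_iff _).1 hex _ hzero
    refine ⟨sub W O, g, ⟨w, hwO⟩, ⟨(colimit.ι (sys i) a).hom.app _ y, ?_⟩, hw⟩
    have hinj := (EtStalk.mono_iff_app_injective (kernel.ι (toPush ℚ i))).1 inferInstance (op (sub W O))
    refine hinj ?_
    rw [NatTrans.naturality_apply, ← ConcreteCategory.comp_apply, ← ConcreteCategory.comp_apply,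
      ← NatTrans.comp_app, ← NatTrans.comp_app, ← ObjectProperty.FullSubcategory.comp_hom,
      ← ObjectProperty.FullSubcategory.comp_hom, colimit.ι_desc_assoc]
    show (kernel.lift _ _ (pr_kill i a) ≫ kernel.ι (toPush ℚ i)).hom.app _ y = _
    rw [kernel.lift_ι, hy]
    exact hsg.symm
  haveI := isIso_of_mono_of_epi (colimit.desc (sys i) c)
  let S : ShortComplex (EtCoh.Ab X) :=
    ShortComplex.mk (kernel.ι (toPush ℚ i)) (toPush ℚ i) (kernel.condition _)
  have hS : S.ShortExact :=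
    { exact := ShortComplex.exact_of_f_is_kernel _ (kernelIsKernel (toPush ℚ i)) }
  obtain ⟨y, hy⟩ := Ext.covariant_sequence_exact₂ _ hS x hx
  haveI := EtColim.preservesColimitsOfShape_HF_small X n (Idx i)
  have hc : IsColimit c := IsColimit.ofIsoColimit (colimit.isColimit (sys i))
    (Cocone.ext (asIso (colimit.desc (sys i) c)) fun a => colimit.ι_desc c a)
  obtain ⟨a, y', hy'⟩ := Concrete.isColimit_exists_rep _ (isColimitOfPreserves (EtCoh.HF X n) hc) y
  refine ⟨a, ?_⟩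
  rw [← hy, ← hy']
  show ((Ext.comp y' (Ext.mk₀ (kernel.lift _ _ (pr_kill i a))) (add_zero n)).comp
    (Ext.mk₀ (kernel.ι (toPush ℚ i))) (add_zero n)).comp (Ext.mk₀ (pr i a)) (add_zero n) = 0
  simp only [Ext.comp_assoc_of_third_deg_zero, Ext.mk₀_comp_mk₀]
  have e : kernel.lift _ _ (pr_kill i a) ≫ kernel.ι (toPush ℚ i) ≫ pr i a = 0 := by
    rw [kernel.lift_ι_assoc, kernel.condition]
  first
    | rw [← Category.assoc] at e; rw [e, Ext.mk₀_zero, Ext.comp_zero]
    | rw [kernel.lift_ι, kernel.condition, Ext.mk₀_zero, Ext.comp_zero]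

end Closed

/-- Classes killed near every point vanish. -/
theorem eq_zero_of_forall_proj [CompactSpace X] {n : ℕ} (x : EtCoh.H X (EtCoh.const X ℚ) n)
    (h : ∀ p : X, ∃ (U : X.Opens) (hU : IsClosed (U : Set X)), p ∈ U ∧
      x.comp (Ext.mk₀ (proj hU)) (add_zero n) = 0) : x = 0 := by
  classical
  choose U hU hp hx using h
  obtain ⟨T, hT⟩ := isCompact_univ.elim_finite_subcover (fun p => (U p : Set X)) (fun p => (U p).2)
    (fun p _ => Set.mem_iUnion.2 ⟨p, hp p⟩)
  have key : ∀ T : Finset X, ∃ (W : X.Opens) (hW : IsClosed (W : Set X)),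
      (W : Set X) = (⋃ p ∈ T, (U p : Set X)) ∧ x.comp (Ext.mk₀ (proj hW)) (add_zero n) = 0 := by
    intro T
    induction T using Finset.induction_on with
    | empty =>
      refine ⟨⊥, isClosed_empty, by simp, ?_⟩
      have h0 : proj (U := (⊥ : X.Opens)) isClosed_empty = 0 := by
        refine hom_ext_cst _ _ fun V v m => ⟨V, 𝟙 V, ⟨v, rfl⟩, ?_⟩
        rw [(proj_cst _ V m).2 (by simp)]
        rfl
      rw [h0, Ext.mk₀_zero, Ext.comp_zero]
    | insert p T' hp' ih =>
      obtain ⟨W, hW, hWe, hxW⟩ := ih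
      refine ⟨U p ⊔ W, (hU p).union hW, by simp [hWe], ?_⟩
      rw [proj_union (hU p) hW ((hU p).union hW) rfl, sub_eq_add_neg, Ext.mk₀_add, Ext.mk₀_add,
        Ext.comp_add, Ext.comp_add, hx p, hxW, Ext.mk₀_neg, Ext.comp_neg, ← Ext.mk₀_comp_mk₀,
        ← Ext.comp_assoc_of_third_deg_zero, hx p, Ext.zero_comp]
      simp
  obtain ⟨W, hW, hWe, hxW⟩ := key T
  rwa [proj_of_univ hW (by rw [hWe]; exact Set.univ_subset_iff.1 hT), Ext.comp_mk₀_id] at hxW

end Groth.Agent.RatPi13
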