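import Groth.Agent.Lib.RatPi13.Basic

/-!
# Rational étale cohomology of a product of valuation rings
-/

set_option autoImplicit false
set_option linter.style.haveILetI false
set_option backward.isDefEq.respectTransparency false
set_option backward.isDefEq.respectTransparency.types false

universe u

open CategoryTheory CategoryTheory.Limits AlgebraicGeometry Opposite Abelian

namespace Groth.Agent.RatPi13

open Groth.Agent.NormSep24

theorem isNormal_spec (R : Type u) [CommRing R] [IsDomain R] [IsIntegrallyClosed R]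
    (p : Spec (CommRingCat.of R)) : IsIntegrallyClosed ((Spec (CommRingCat.of R)).presheaf.stalk p) := by
  letI : Algebra R ((Spec (CommRingCat.of R)).presheaf.stalk p) :=
    StructureSheaf.stalkAlgebra (R := R) (p : PrimeSpectrum R)
  have hle : (p : PrimeSpectrum R).asIdeal.primeCompl ≤ nonZeroDivisors R :=
    (p : PrimeSpectrum R).asIdeal.primeCompl_le_nonZeroDivisors
  haveI : IsLocalization.AtPrime ((Spec (CommRingCat.of R)).presheaf.stalk p) (p : PrimeSpectrum R).asIdeal :=
    StructureSheaf.IsLocalization.to_stalk R p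
  exact isIntegrallyClosed_of_isLocalization
    ((Spec (CommRingCat.of R)).presheaf.stalk p) (p : PrimeSpectrum R).asIdeal.primeCompl hle

variable {ι : Type u} (R : ι → Type u) [∀ v, CommRing (R v)] [∀ v, IsDomain (R v)]

/-- The ideal of the connected component of a prime. -/
def compIdeal (p : Ideal (Π v, R v)) [p.IsPrime] : Ideal (Π v, R v) where
  carrier := {a | ∃ e, IsIdempotentElem e ∧ e ∉ p ∧ e * a = 0}
  zero_mem' := ⟨1, IsIdempotentElem.one, (Ideal.ne_top_iff_one p).1 Ideal.IsPrime.ne_top', mul_zero _⟩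
  add_mem' := by
    rintro a b ⟨e, he, hep, hea⟩ ⟨f, hf, hfp, hfb⟩
    refine ⟨e * f, he.mul hf, fun h => (Ideal.IsPrime.mem_or_mem inferInstance h).elim hep hfp, ?_⟩
    rw [mul_add, mul_right_comm e f a, hea, zero_mul, mul_assoc e f b, hfb, mul_zero, add_zero]
  smul_mem' := by
    rintro c a ⟨e, he, hep, hea⟩
    exact ⟨e, he, hep, by rw [smul_eq_mul, mul_left_comm, hea, mul_zero]⟩

/-- The indicator of a set of indices. -/
noncomputable def ind (S : Set ι) : Π v, R v := fun v => by classical exact if v ∈ S then 1 else 0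

theorem isIdempotentElem_ind (S : Set ι) : IsIdempotentElem (ind R S) := funext fun v => by
  simp only [ind, Pi.mul_apply]; split <;> simp

theorem ind_or (S : Set ι) (p : Ideal (Π v, R v)) [p.IsPrime] : ind R S ∉ p ∨ ind R Sᶜ ∉ p := by
  by_contra! h
  refine (Ideal.ne_top_iff_one p).1 Ideal.IsPrime.ne_top' ?_
  convert p.add_mem h.1 h.2 using 1
  funext v
  by_cases hv : v ∈ S <;> simp [ind, hv]

variable [∀ v, ValuationRing (R v)]

set_option synthInstance.maxHeartbeats 400000 in
theorem quotient_spec (p : Ideal (Π v, R v)) [p.IsPrime] :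
    IsDomain ((Π v, R v) ⧸ compIdeal R p) ∧ IsIntegrallyClosed ((Π v, R v) ⧸ compIdeal R p) := by
  classical
  have hne : compIdeal R p ≠ ⊤ := fun h => by
    obtain ⟨e, -, hep, he⟩ := show (1 : Π v, R v) ∈ compIdeal R p from h ▸ trivial
    rw [mul_one] at he
    exact hep (he ▸ p.zero_mem)
  haveI : (compIdeal R p).IsPrime := by
    refine ⟨hne, fun {a b} hab => ?_⟩
    obtain ⟨e, he, hep, heab⟩ := hab
    rcases ind_or R {v | a v = 0} p with h | h
    · refine Or.inl ⟨_, isIdempotentElem_ind R _, h, funext fun v => ?_⟩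
      simp only [ind, Pi.mul_apply, Pi.zero_apply, Set.mem_setOf_eq]
      split <;> simp_all
    · refine Or.inr ⟨e * ind R {v | a v = 0}ᶜ, he.mul (isIdempotentElem_ind R _),
        fun h' => (Ideal.IsPrime.mem_or_mem inferInstance h').elim hep h, funext fun v => ?_⟩
      have hv := congrFun heab v
      simp only [ind, Pi.mul_apply, Pi.zero_apply, Set.mem_compl_iff, Set.mem_setOf_eq] at hv ⊢
      split <;> simp_all
  haveI : IsDomain ((Π v, R v) ⧸ compIdeal R p) := Ideal.Quotient.isDomain _
  haveI : ValuationRing ((Π v, R v) ⧸ compIdeal R p) := by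
    refine ValuationRing.iff_dvd_total.2 ⟨fun x y => ?_⟩
    obtain ⟨a, rfl⟩ := Ideal.Quotient.mk_surjective x
    obtain ⟨b, rfl⟩ := Ideal.Quotient.mk_surjective y
    let S : Set ι := {v | a v ∣ b v}
    rcases ind_or R S p with h | h
    · left
      let c : Π v, R v := fun v => if hv : a v ∣ b v then hv.choose else 0
      refine ⟨Ideal.Quotient.mk _ c, ?_⟩
      rw [← map_mul, Ideal.Quotient.eq]
      refine ⟨_, isIdempotentElem_ind R S, h, funext fun v => ?_⟩
      simp only [ind, Pi.mul_apply, Pi.sub_apply, Pi.zero_apply]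
      by_cases hv : a v ∣ b v
      · rw [show c v = hv.choose from dif_pos hv, ← hv.choose_spec, sub_self, mul_zero]
      · rw [if_neg (show v ∉ S from hv), zero_mul]
    · right
      let c : Π v, R v := fun v => if hv : b v ∣ a v then hv.choose else 0
      refine ⟨Ideal.Quotient.mk _ c, ?_⟩
      rw [← map_mul, Ideal.Quotient.eq]
      refine ⟨_, isIdempotentElem_ind R Sᶜ, h, funext fun v => ?_⟩
      simp only [ind, Pi.mul_apply, Pi.sub_apply, Pi.zero_apply, Set.mem_compl_iff]
      by_cases hv : a v ∣ b v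
      · rw [if_neg (not_not.2 (show v ∈ S from hv)), zero_mul]
      · have hv' : b v ∣ a v := ((ValuationRing.iff_dvd_total.1 inferInstance).total (a v) (b v)).resolve_left hv
        rw [show c v = hv'.choose from dif_pos hv', ← hv'.choose_spec, sub_self, mul_zero]
  exact ⟨inferInstance, inferInstance⟩

/-- Rational étale cohomology of a product of valuation rings vanishes in positive degrees. -/
theorem subsingleton_H_rat_pi (n : ℕ) (hn : 0 < n) :
    Subsingleton (EtCoh.H (Spec (CommRingCat.of (Π v, R v))) (EtCoh.const (Spec (CommRingCat.of (Π v, R v))) ℚ) n) := by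
  refine subsingleton_of_forall_eq 0 fun x => eq_zero_of_forall_proj x fun q => ?_
  let p : Ideal (Π v, R v) := (show PrimeSpectrum (Π v, R v) from q).asIdeal
  obtain ⟨hd, hic⟩ := quotient_spec R p
  let i : Spec (CommRingCat.of ((Π v, R v) ⧸ compIdeal R p)) ⟶ Spec (CommRingCat.of (Π v, R v)) :=
    Spec.map (CommRingCat.ofHom (Ideal.Quotient.mk (compIdeal R p)))
  haveI : IsClosedImmersion i := IsClosedImmersion.spec_of_surjective _ Ideal.Quotient.mk_surjective
  have hrange : ∀ r : PrimeSpectrum (Π v, R v), (r : Spec (CommRingCat.of (Π v, R v))) ∈ Set.range i ↔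
      compIdeal R p ≤ r.asIdeal := by
    intro r
    show r ∈ Set.range (PrimeSpectrum.comap (Ideal.Quotient.mk (compIdeal R p))) ↔ _
    rw [range_comap_of_surjective _ (Ideal.Quotient.mk (compIdeal R p)) Ideal.Quotient.mk_surjective, Ideal.mk_ker,
      PrimeSpectrum.mem_zeroLocus]
    exact Iff.rfl
  have hbase : ∀ e : Π v, R v, IsIdempotentElem e → e ∉ p →
      ∀ r : PrimeSpectrum (Π v, R v), compIdeal R p ≤ r.asIdeal → e ∉ r.asIdeal := by
    intro e he hep r hr her
    have h1 : 1 - e ∈ r.asIdeal := hr ⟨e, he, hep, by rw [mul_sub, mul_one, he.eq, sub_self]⟩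
    exact (Ideal.ne_top_iff_one _).1 r.2.ne_top (by simpa using r.asIdeal.add_mem h1 her)
  have hsep : ∀ z : Spec (CommRingCat.of (Π v, R v)), z ∉ Set.range i →
      ∃ U : (Spec (CommRingCat.of (Π v, R v))).Opens, IsClosed (U : Set ↥(Spec (CommRingCat.of (Π v, R v)))) ∧
        Set.range i ⊆ (U : Set ↥(Spec (CommRingCat.of (Π v, R v)))) ∧ z ∉ U := by
    intro z hz
    rw [hrange] at hz
    obtain ⟨a, ⟨e, he, hep, hea⟩, haz⟩ := SetLike.not_le_iff_exists.1 hz
    refine ⟨PrimeSpectrum.basicOpen e, (PrimeSpectrum.isClopen_iff.2 ⟨e, he, rfl⟩).1, fun r hr => ?_, fun hzU => ?_⟩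
    · exact hbase e he hep _ ((hrange _).1 hr)
    · exact hzU ((Ideal.IsPrime.mem_or_mem inferInstance (hea ▸ zero_mem _ : e * a ∈ _)).resolve_right haz)
  haveI := FieldH25.subsingleton_H_rat_integral (Spec (CommRingCat.of ((Π v, R v) ⧸ compIdeal R p)))
    (isNormal_spec _) n hn
  have hZ : Subsingleton (EtCoh.H (Spec (CommRingCat.of ((Π v, R v) ⧸ compIdeal R p)))
      ((EtCoh.pull i).obj (EtCoh.const (Spec (CommRingCat.of (Π v, R v))) ℚ)) n) :=
    subsingleton_of_forall_eq 0 fun z => FieldH25.eq_zero_of_comp_iso z (EtCore.pullConst i ℚ) (Subsingleton.elim _ _)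
  have hx : x.comp (Ext.mk₀ (toPush ℚ i)) (add_zero n) = 0 := by
    have h0 : x.comp (Ext.mk₀ ((EtCoh.pullPushAdj i).unit.app (EtCoh.const _ ℚ))) (add_zero n) = 0 :=
      (FieldH25.bijective_HofPush_integral i _ n).1 (Subsingleton.elim _ _)
    rw [toPush, ← Ext.mk₀_comp_mk₀, ← Ext.comp_assoc_of_third_deg_zero, h0, Ext.zero_comp]
  obtain ⟨a, ha⟩ := exists_proj_kill i hsep x hx
  refine ⟨_, (OrderDual.ofDual a).2.1, (OrderDual.ofDual a).2.2 ?_, ha⟩
  refine (hrange _).2 fun b ⟨e, _, hep, heb⟩ => ?_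
  exact (Ideal.IsPrime.mem_or_mem inferInstance (heb ▸ zero_mem _ : e * b ∈ p)).resolve_left hep

end Groth.Agent.RatPi13
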